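import Cfsg.Agent.H650.Ppd.Psl
import Cfsg.Agent.H948.Ux.NatE

/-!
# UN1a (S5716, unbounded rank): `PSL_N(K)` in its own characteristic, exact outcome (helper887)

**`nate_psl`** : `Row k m P`, `Soc P ≃ PSL_N(K)`, `char K = char F` imply `NatE P`. (Proof: helper650's `nat_psl`.)
-/

set_option autoImplicit false
set_option linter.unusedSectionVars false
set_option linter.style.haveILetI false

namespace Cfsg.Agent.H887.Ux

open Cfsg Cfsg.Geo
open Cfsg.Agent.H915.LD (Core Soc)
open Cfsg.Agent.H905.Md
open Cfsg.Agent.H650.Ppd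
open Cfsg.Agent.H100.Ppd (Row Num)
open Cfsg.Agent.H948.Ux (NatE)

universe u

variable {n : ℕ} {F : Type u} [Field F] [Finite F] {k m : ℕ} {P : Subgroup (GL (Fin n) F)}
  {K : Type} [Field K] [Fintype K] (p : ℕ) [hp : Fact p.Prime] [hFp : CharP F p] [hKp : CharP K p]
include hp hFp hKp

/-- **`PSL_N(K)` in its own characteristic.** -/
theorem nate_psl (h : Row k m P) (hg : ∃ r, r.Prime ∧ r ∣ m ∧ r ∣ Nat.card (Soc P)) {N : ℕ} (hN : 2 ≤ N)
    (h4 : N = 2 → 4 ≤ Fintype.card K) (e : Soc P ≃* Matrix.ProjectiveSpecialLinearGroup (Fin N) K) : NatE P := by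
  have hC := h.core
  have hn := h.num
  obtain ⟨l, rfl⟩ : ∃ l, N = l + 1 := ⟨N - 1, by omega⟩
  have hK4 : l = 1 → 4 ≤ Nat.card K := fun hl => by
    rw [Nat.card_eq_fintype_card]; exact h4 (by omega)
  obtain ⟨j, hj, hjK⟩ := psl_card p hC.absIrred hC.perfect (by omega) hK4 e hC.no_subfield
  have hk : k ≤ j * (l + 1) := by
    obtain ⟨r, hr, hrm, hrT⟩ := hg
    refine le_of_dvd_sl h hj hjK hN hr hrm (hrT.trans ?_)
    rw [Nat.card_congr e.toEquiv]
    exact Subgroup.card_quotient_dvd_card _
  have hn10 := hn.ten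
  have hnlt : n < 2 * (j * (l + 1)) := lt_of_lt_of_le hn.nlt (Nat.mul_le_mul_left _ hk)
  rcases Nat.lt_or_ge l 2 with hl | hl
  · -- `N = 2`
    exfalso
    obtain rfl : l = 1 := by omega
    have := Fintype.ofFinite F
    obtain ⟨s, d, hs0, hs, hd2, hd⟩ := H875.Psl2.exists_pow p hC e
    rw [Fintype.card_fin] at hd
    have hsj : s = j := by
      rw [Nat.card_eq_fintype_card, Nat.card_eq_fintype_card, hs] at hjK
      exact (Nat.pow_right_injective (Fintype.one_lt_card (α := F)) hjK).symm
    subst hsj
    have h5 : 2 ^ s ≤ d ^ s := Nat.pow_le_pow_left hd2 s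
    rcases Nat.lt_or_ge s 4 with h6 | h6
    · interval_cases s
      · omega
      · omega
      · rcases Nat.lt_or_ge d 3 with h7 | h7
        · obtain rfl : d = 2 := by omega
          omega
        · have := Nat.pow_le_pow_left h7 3
          omega
    · have := four_lt_two_pow h6
      omega
  · have hjK' : Nat.card K = Nat.card F ^ j := hjK.symm
    rcases Nat.lt_or_ge j 2 with hj1 | hj2
    · obtain rfl : j = 1 := by omega
      have hl5 : 5 ≤ l := by omega
      have h5 : n < (l + 1).choose 2 := by
        have h6 : (l + 1).choose 2 * 2 = (l + 1) * l := by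
          rw [Nat.choose_two_right, Nat.add_sub_cancel, Nat.div_mul_cancel]
          rw [mul_comm]
          exact (Nat.even_mul_succ_self l).two_dvd
        nlinarith
      have h6 := psl_dim p hC.absIrred hC.perfect (by omega) hK4 e hl (Or.inl (by rwa [Fintype.card_fin]))
      rw [Fintype.card_fin] at h6
      obtain ⟨-, h7⟩ := psl_eq p hC.absIrred hC.perfect (by omega) hK4 e hC.no_subfield h6
      exact Or.inl h7.ge
    · exfalso
      have h5 := card_ge_A p hC hl e hjK'
      rw [Fintype.card_fin] at h5
      rcases Nat.lt_or_ge l 3 with hl3 | hl3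
      · obtain rfl : l = 2 := by omega
        have h6 : (2 + 1).choose 2 = 3 := rfl
        rw [h6] at h5
        rcases Nat.lt_or_ge j 3 with hj3 | hj3
        · obtain rfl : j = 2 := by omega
          have h7 := H887.DS.dim3 p hC e (by rw [Fintype.card_fin]; omega)
          rw [Fintype.card_fin] at h7
          have h8 := card_eq_of_ten p hC e (by rw [Fintype.card_fin]; omega)
          rw [hjK'] at h8
          have h9 : 1 < Nat.card F := Finite.one_lt_card
          nlinarith
        · have := two_pow_bound' hj3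
          omega
      · have := arith_A (N := l + 1) (j := j) (by omega) hj2
        omega

end Cfsg.Agent.H887.Ux
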