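import Cfsg.Agent.H650.Ppd.Psp
import Cfsg.Agent.H948.Ux.NatE

/-!
# UN1b (S5716, unbounded rank): `PSp_2l(K)` in its own characteristic, exact outcome (helper887)

**`nate_psp`** : `Row k m P`, `Soc P ≃ PSp_2l(K)`, `char K = char F` imply `NatE P`. (Proof: helper650's `nat_psp`.)
-/

set_option autoImplicit false
set_option linter.unusedSectionVars false
set_option linter.style.haveILetI false

namespace Cfsg.Agent.H887.Ux

open Cfsg Cfsg.Geo
open Cfsg.Agent.H915.LD Cfsg.Agent.H911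
open Cfsg.Agent.H650.Ppd
open Cfsg.Agent.H100.Ppd (Row Num)
open Cfsg.Agent.H948.Ux (NatE)

universe u

variable {n : ℕ} {F : Type u} [Field F] [Finite F] {k m : ℕ} {P : Subgroup (GL (Fin n) F)}
  {K : Type} [Field K] [Fintype K] (p : ℕ) [hp : Fact p.Prime] [hFp : CharP F p] [hKp : CharP K p]
include hp hFp hKp

/-- **`PSp_2l(K)` in its own characteristic.** -/
theorem nate_psp (h : Row k m P) (hg : ∃ r, r.Prime ∧ r ∣ m ∧ r ∣ Nat.card (Soc P)) {l : ℕ} (hl : 2 ≤ l)
    (h3 : l = 2 → 3 ≤ Fintype.card K) (e : Soc P ≃* PSp l K) : NatE P := by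
  have hC := h.core
  have hn := h.num
  have hK : 3 ≤ l ∨ (l = 2 ∧ 3 ≤ Nat.card K) ∨ 4 ≤ Nat.card K := by
    rcases Nat.lt_or_ge l 3 with h1 | h1
    · exact Or.inr (Or.inl ⟨by omega, by rw [Nat.card_eq_fintype_card]; exact h3 (by omega)⟩)
    · exact Or.inl h1
  obtain ⟨j, hj, hjK⟩ := exists_card p hC (by omega) hK e
  have hk : k ≤ j * (2 * l) := by
    obtain ⟨r, hr, hrm, hrT⟩ := hg
    refine le_of_dvd_sp h hj hjK hr hrm (hrT.trans ?_)
    rw [Nat.card_congr e.toEquiv]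
    exact Subgroup.card_quotient_dvd_card _
  have hn10 := hn.ten
  have hnlt : n < 2 * (j * (2 * l)) := lt_of_lt_of_le hn.nlt (Nat.mul_le_mul_left _ hk)
  have h4 : 2 * (j * (2 * l)) = 4 * (l * j) := by ring
  rw [h4] at hnlt
  rcases Nat.lt_or_ge l 3 with h1 | h1
  · exfalso
    obtain rfl : l = 2 := by omega
    have h5 := le_card_psp4 p hC e (e := j) (by omega) hjK.symm
    rw [Fintype.card_fin] at h5
    omega
  · have h5 := cjOf_sp p hC h1 e hj hjK.symm (by rw [Fintype.card_fin]; exact hn10)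
      (by rw [Fintype.card_fin]; exact hnlt)
    obtain ⟨f, hf, h6⟩ := h5.sp_form
    refine Or.inr (Or.inl ⟨f, hf, fun x hx => ?_, fun x hx => (h6 x).2 fun u v => hx _ rfl u v⟩)
    intro A hA u v
    rw [Set.mem_singleton_iff.1 hA]
    exact (h6 x).1 hx u v

end Cfsg.Agent.H887.Ux
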