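import Cfsg.Agent.H762.Ppd.Psu
import Cfsg.Agent.H948.Ux.NatE

/-!
# UN1c (S5716, unbounded rank): `PSU_N(q₀)`, `N ≥ 6`, in its own characteristic, exact outcome (helper887)

* `nate_of_ident` : the natural case;
* **`nate_psu`** : `Row k m P`, `Soc P ≃ PSU_N(q₀)`, `N ≥ 6`, `char K = char F` imply `NatE P`. (Proof: helper762's `nat_psu`.)
-/

set_option autoImplicit false
set_option linter.unusedSectionVars false
set_option linter.style.haveILetI false

namespace Cfsg.Agent.H887.Ux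

open Cfsg.Agent.H762.Ppd
open Cfsg.Agent.H948.Ux (NatE)
section ident

open Cfsg.Agent.LieClassical.HermBasic
open Cfsg.Agent.TitsThree Cfsg.Agent.TitsThree.KSideU Cfsg.Agent.TitsThree.KSideUDesc
open Cfsg.Agent.H915.LD Cfsg.Agent.H925.Nat
open Cfsg Cfsg.Geo Matrix
open scoped MatrixGroups Matrix

universe u v w

variable {n : ℕ} {F : Type u} [Field F] [Finite F] {P : Subgroup (GL (Fin n) F)}
  {K : Type} [Field K] [Fintype K] {q N : ℕ}

/-- **The natural case.** -/
theorem nate_of_ident (hK : Fintype.card K = q ^ 2) (τ : K ≃+* F) (θ : (Fin N → F) ≃ₗ[F] (Fin n → F))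
    (hθ : ∀ A : GL (Fin n) F, A ∈ P ↔ ∃ g : IU K q N, ∀ v, θ (((mt (IU K q N) g).map (τ : K →+* F)) *ᵥ v) =
      (A : Matrix (Fin n) (Fin n) F) *ᵥ θ v) : NatE P := by
  have := Fintype.ofFinite F
  have hF : Fintype.card F = q ^ 2 := by rw [← hK]; exact Fintype.card_congr τ.symm.toEquiv
  have hf := H930.hermForm_isUnitaryFormPow hF N
  right; right; left
  refine ⟨conjE hF, fun u v => hermForm N F q (θ.symm u) (θ.symm v), ⟨conjE_ne hF, fun a => ?_, fun x y v => ?_,
    fun c x v => ?_, fun v w => ?_, ?_⟩, ?_, ?_⟩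
  · rw [conjE_apply, conjE_apply, pow_q_pow_q hF]
  · change hermForm N F q (θ.symm (x + y)) _ = _
    rw [map_add, hf.add_left]
  · change hermForm N F q (θ.symm (c • x)) _ = _
    rw [map_smul, hf.smul_left]
  · rw [conjE_apply]
    exact hf.herm _ _
  · intro v hv
    obtain ⟨⟨x, hx⟩, ⟨y, hy⟩⟩ := hf.nondegenerate (θ.symm v) fun h0 => hv ((LinearEquiv.map_eq_zero_iff θ.symm).1 h0)
    refine ⟨⟨θ x, ?_⟩, ⟨θ y, ?_⟩⟩
    · dsimp only
      rw [LinearEquiv.symm_apply_apply]
      exact hx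
    · dsimp only
      rw [LinearEquiv.symm_apply_apply]
      exact hy
  · intro A hA M hM u v
    rw [Set.mem_singleton_iff.1 hM]
    obtain ⟨g, hg⟩ := (hθ A).1 hA
    obtain ⟨_, s, rfl⟩ := g
    have h1 : mt (IU K q N) ⟨toLin K q N s, s, rfl⟩ = (s : Matrix.SpecialLinearGroup (Fin N) K).1 := by
      apply Matrix.toLin'.injective
      refine LinearMap.ext fun v => ?_
      rw [Matrix.toLin'_apply, Matrix.toLin'_apply, mt_mulVec]
      rfl
    have key : ∀ w : Fin n → F, θ.symm ((A : Matrix (Fin n) (Fin n) F) *ᵥ w) =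
        fun i => τ (((s : Matrix.SpecialLinearGroup (Fin N) K).1 *ᵥ fun j => τ.symm (θ.symm w j)) i) := by
      intro w
      rw [LinearEquiv.symm_apply_eq]
      have h2 := hg (θ.symm w)
      rw [LinearEquiv.apply_symm_apply] at h2
      rw [← h2, h1]
      congr 1
      funext i
      have h3 := RingHom.map_mulVec (τ : K →+* F) (s : Matrix.SpecialLinearGroup (Fin N) K).1
        (fun j => τ.symm (θ.symm w j)) i
      have h4 : ((τ : K →+* F) ∘ fun j => τ.symm (θ.symm w j)) = θ.symm w := by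
        funext j
        exact τ.apply_symm_apply _
      rw [h4] at h3
      exact h3.symm
    have h5 : ∀ w : Fin n → F, θ.symm w = fun i => τ (τ.symm (θ.symm w i)) := fun w => by
      funext i
      exact (τ.apply_symm_apply _).symm
    dsimp only
    rw [key u, key v, herm_map τ]
    conv_rhs => rw [h5 u, h5 v, herm_map τ]
    exact congrArg τ (s.2 _ _)
  · intro A hA hdet
    rw [hθ]
    -- the matrix on `F^N`
    let B : Matrix (Fin N) (Fin N) F := LinearMap.toMatrix'
      ((θ.symm : (Fin n → F) →ₗ[F] (Fin N → F)) ∘ₗ (Matrix.toLin' (A : Matrix (Fin n) (Fin n) F)) ∘ₗ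
        (θ : (Fin N → F) →ₗ[F] (Fin n → F)))
    have hB : ∀ v, B *ᵥ v = θ.symm ((A : Matrix (Fin n) (Fin n) F) *ᵥ θ v) := by
      intro v
      rw [← Matrix.toLin'_apply, Matrix.toLin'_toMatrix']
      rfl
    have hBd : B.det = 1 := by
      have h1 : B.det = LinearMap.det ((θ.symm : (Fin n → F) →ₗ[F] (Fin N → F)) ∘ₗ
          (Matrix.toLin' (A : Matrix (Fin n) (Fin n) F)) ∘ₗ (θ : (Fin N → F) →ₗ[F] (Fin n → F))) :=
        LinearMap.det_toMatrix' _
      have h2 := LinearMap.det_conj (Matrix.toLin' (A : Matrix (Fin n) (Fin n) F)) θ.symm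
      rw [LinearEquiv.symm_symm] at h2
      rw [h1, h2, LinearMap.det_toLin']
      have h3 := congrArg Units.val hdet
      exact h3
    have hBf : ∀ u v, hermForm N F q (B *ᵥ u) (B *ᵥ v) = hermForm N F q u v := by
      intro u v
      have h1 := hA _ (Set.mem_singleton _) (θ u) (θ v)
      simp only [LinearEquiv.symm_apply_apply] at h1
      rw [hB, hB, h1]
    -- the matrix over `K`
    let C : Matrix (Fin N) (Fin N) K := B.map τ.symm
    have hCB : C.map τ = B := by
      ext i j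
      simp [C]
    have hCd : C.det = 1 := by
      have h1 : C.det = τ.symm B.det := by
        have := RingHom.map_det (τ.symm : F →+* K) B
        exact this.symm
      rw [h1, hBd, map_one]
    have hCv : ∀ v : Fin N → K, (fun i => τ ((C *ᵥ v) i)) = B *ᵥ (fun i => τ (v i)) := by
      intro v
      rw [← hCB]
      funext i
      exact RingHom.map_mulVec (τ : K →+* F) C v i
    let g : SU N K q := ⟨⟨C, hCd⟩, fun u v => by
      change hermForm N K q (C *ᵥ u) (C *ᵥ v) = hermForm N K q u v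
      apply τ.injective
      rw [← herm_map τ, ← herm_map τ, hCv, hCv, hBf]⟩
    refine ⟨⟨toLin K q N g, g, rfl⟩, fun v => ?_⟩
    have h1 : mt (IU K q N) ⟨toLin K q N g, g, rfl⟩ = C := by
      apply Matrix.toLin'.injective
      refine LinearMap.ext fun v => ?_
      rw [Matrix.toLin'_apply, Matrix.toLin'_apply, mt_mulVec]
      rfl
    rw [h1]
    have h2 : C.map (τ : K →+* F) = B := hCB
    rw [h2, hB, LinearEquiv.apply_symm_apply]

end ident

universe u

open CoxeterSystem Cfsg.Agent.ChevalleyStructure.CoxeterGeom Cfsg.Agent.Tits.Roots Cfsg.Agent.Tits.Core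
  Cfsg.Agent.Nodes.Reps Cfsg.Agent.Nodes.BNOf Cfsg.Agent.Nodes.Bruhat Cfsg.Agent.Nodes.RGDLib
open Cfsg.Agent.Nodes Cfsg.Agent.Nodes.WittRoot Cfsg.Agent.Nodes.WittRGD Cfsg.Agent.Nodes.WittAll Cfsg.Agent.Nodes.WittU
open Cfsg.Agent.Nodes.TypeC (isCartan)
open Cfsg.Agent.LieClassical.HermBasic Cfsg.Agent.LieClassical.HermSiegel
open Cfsg.Agent.TitsThree.Siegel Cfsg.Agent.TitsThree.SiegelGen Cfsg.Agent.TitsThree.WittFrame Cfsg.Agent.TitsThree.FrameCN
  Cfsg.Agent.TitsThree.WBridge Cfsg.Agent.TitsThree.KSideU Cfsg.Agent.TitsThree.KSideUDesc Cfsg.Agent.TitsThree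
open Cfsg.Agent.H915.LD Cfsg.Agent.H911 Cfsg.Agent.H905.Md Cfsg.Agent.H925.Nat Cfsg.Agent.Nodes.RGDLift
open Cfsg.Agent.H156.Ppd (Cov lrep exists_cov)
open Cfsg.Agent.Omega.CR Cfsg.Agent.Omega.FOne.Lift.Sd
open Cfsg.Agent.H948.Ppd
open Cfsg.Agent.H61.SUCross Cfsg.Agent.H48.NatSU
open Cfsg.Agent.H100.Ppd (Row Num Nat')
open Cfsg Cfsg.Geo
open scoped MatrixGroups Matrix


variable {n : ℕ} {F : Type u} [Field F] [Finite F] {k m : ℕ} {P : Subgroup (GL (Fin n) F)}
  {K : Type} [Field K] [Fintype K] {N q : ℕ} (p : ℕ) [hp : Fact p.Prime] [hFp : CharP F p] [hKp : CharP K p]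
include hp hFp hKp

theorem nate_psu_aux (h : Row k m P) (hN : 6 ≤ N) (hK : Fintype.card K = q ^ 2) (e : Soc P ≃* PSU N K q)
    (hkle : ∀ j, 1 ≤ j → Nat.card F ^ j = q ^ 2 → k ≤ j * (2 * ((N - 1) / 2) + 1))
    (hseven : ∀ (hN : 3 ≤ N) (W : WFrame (PU hK N) 3) (d : Fin N → K), N = 7 → hermForm N K q d d = 1 →
      W.V0 = Submodule.span K {d} → ∀ φ₀ : SU N K q →* GL (Fin n) F, φ₀.range = P → Nat.card F ^ 2 = q ^ 2 →
      (2 : Fin 3) ∉ Jx (CoxeterMatrix.B 3).toCoxeterSystem (isCartan 3) (WittModel.X (modelSU hK hN W)) (lrep φ₀) →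
      56 ≤ n) : NatE P := by
  have hC := h.core
  have hN3 : 3 ≤ N := by omega
  obtain ⟨r, hr⟩ : ∃ r, N = 2 * r ∨ N = 2 * r + 1 := ⟨N / 2, by omega⟩
  have hr3 : 3 ≤ r := by omega
  have hNo : 2 * ((N - 1) / 2) + 1 = 2 * r - 1 ∨ 2 * ((N - 1) / 2) + 1 = 2 * r + 1 := by omega
  obtain ⟨W, hW, hW'⟩ : ∃ W : WFrame (PU hK N) r, Kind W ∧
      (N = 2 * r + 1 → ∃ d : Fin N → K, hermForm N K q d d = 1 ∧ W.V0 = Submodule.span K {d}) := by
    rcases hr with hr | hr
    · obtain ⟨W, hW⟩ := exists_wframe_even hK hr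
      exact ⟨W, Or.inl hW, fun h => by omega⟩
    · obtain ⟨W, d, hd, hW⟩ := exists_wframe_odd hK hr
      exact ⟨W, Or.inr ⟨d, hd, hW⟩, fun _ => ⟨d, hd, hW⟩⟩
  have hWf : Finite (CoxeterMatrix.B r).Group := TypeC.finite_W (CoxeterMatrix.B r).toCoxeterSystem
  have := finite_GL (K := K) (ν := Fin N)
  obtain ⟨p0, hp0, -⟩ := exists_adm hK W
  have hA : AmbT (toFrame W) p (modelSU hK hN3 W).I := AmbT.of_amb (amb_U hK W) p
  obtain ⟨φ₀, hφ₀, C⟩ := exists_covSU' (hN := hN3) (W := W) hC (by omega) (by omega) (hA := hA) hp0 e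
  have hT : ∀ s ∈ (TB (modelSU hK hN3 W)).comap (MonoidHom.id (modelSU hK hN3 W).I),
      ∀ t ∈ (TB (modelSU hK hN3 W)).comap (MonoidHom.id (modelSU hK hN3 W).I), s * t = t * s :=
    fun s hs t ht => comm_SU hW s hs t ht
  have hpow : ∀ t ∈ (TB (modelSU hK hN3 W)).comap (MonoidHom.id (modelSU hK hN3 W).I), t ^ Nat.card K = t :=
    fun t ht => pow_SU hW t ht
  -- the order of the field
  obtain ⟨c, -, hc⟩ := FiniteField.card K p
  rw [← Nat.card_eq_fintype_card] at hc
  obtain ⟨j, hj, hjK⟩ := C.exists_j hC hT (a := c) c.ne_zero (by rw [← hc]; exact hpow)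
  rw [← hc] at hjK
  have hjq : Nat.card F ^ j = q ^ 2 := by rw [hjK, Nat.card_eq_fintype_card, hK]
  have hk := hkle j hj hjq
  have hnlt : n < 2 * (j * (2 * ((N - 1) / 2) + 1)) := by
    have := h.num.nlt
    omega
  have hnlt' : n < 2 * (j * (2 * r + 1)) := by
    refine hnlt.trans_le (Nat.mul_le_mul_left _ (Nat.mul_le_mul_left _ (by omega)))
  obtain ⟨hirr, hD⟩ := irr_B hC C hT
  have hne := hC.nonempty
  have hchar : CharP (AlgebraicClosure F) p := charP_of_injective_algebraMap (algebraMap F _).injective p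
  -- the edges
  have hedge : ∀ i : Fin r, (i : ℕ) + 1 < r →
      i ∉ JB (modelSU hK hN3 W) p (MonoidHom.id (modelSU hK hN3 W).I) (φ₀.comp (modelSU hK hN3 W).φ) →
      ∃ m, 2 ≤ m ∧ dB (modelSU hK hN3 W) p (MonoidHom.id (modelSU hK hN3 W).I) (φ₀.comp (modelSU hK hN3 W).φ) i = m ^ j := by
    intro i hi hiJ
    obtain ⟨σ, -, N₁, -⟩ := exists_ndI hp0 C hi (by
      intro e
      have := congrArg Fin.val e
      simp only at this
      omega)
    exact edge_pow_B hC C hT hiJ (⟨N₁.up, N₁.lo, N₁.tor⟩ : Nd _ _ i σ) hjK.symm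
  by_cases hmid : ∃ i : Fin r, i ∉ JB (modelSU hK hN3 W) p (MonoidHom.id (modelSU hK hN3 W).I)
      (φ₀.comp (modelSU hK hN3 W).φ) ∧ 1 ≤ (i : ℕ) ∧ (i : ℕ) + 1 < r
  · exfalso
    obtain ⟨i, hi, hi1, hi2⟩ := hmid
    have hd := hedge i hi2 hi
    have hb := bound_all hC C hT hi
    rw [Fintype.card_fin] at hb
    rcases Nat.lt_or_ge 3 r with hr4 | hr4
    · exact Ar.mid hr4 hj hnlt' hd hi1 hi2 hb
    · obtain rfl : r = 3 := by omega
      have hi1' : (i : ℕ) = 1 := by omega
      rw [hi1'] at hb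
      have hb' : 12 * dB (modelSU hK hN3 W) p (MonoidHom.id (modelSU hK hN3 W).I) (φ₀.comp (modelSU hK hN3 W).φ) i ≤
          2 * n := by
        have e1 : Nat.choose 3 (1 + 1) * 2 ^ (1 + 1) = 12 := by decide
        rwa [e1] at hb
      rcases hr with hr | hr
      · have e2 : 2 * ((N - 1) / 2) + 1 = 5 := by omega
        rw [e2] at hnlt
        exact Ar.mid_six hj hnlt hd hb'
      · have e2 : 2 * ((N - 1) / 2) + 1 = 7 := by omega
        rw [e2] at hnlt
        have h3 := Low.b3_mid C.rgd hirr rfl hi1' hi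
        have h4 := finrank_Io C.rgd hirr i
        rw [hD, Module.finrank_fintype_fun_eq_card, Fintype.card_fin, mul_one] at h3
        rw [hD] at h4
        have hj1 := Ar.mid_seven hj hnlt hd hb' h4 h3
        subst hj1
        by_cases h0 : (0 : Fin 3) ∈ JB (modelSU hK hN3 W) p (MonoidHom.id (modelSU hK hN3 W).I)
          (φ₀.comp (modelSU hK hN3 W).φ)
        · obtain rfl : i = 1 := Fin.ext hi1'
          obtain ⟨p', f, hp', hch, hqf, hf⟩ := LieClassical.HermBasic.exists_prime_pow hK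
          obtain rfl : p' = p := CharP.eq K hch ‹_›
          have hF : Nat.card F = p' ^ (2 * f) := by
            rw [← pow_one (Nat.card F), hjq, hqf, ← pow_mul, mul_comm]
          have h5 := mid_bound_su hC hp0 C hT hi h0 hF hqf (Nat.gcd_eq_right (Dvd.intro_left 2 rfl))
          rw [Fintype.card_fin] at h5
          omega
        · have h5 := Low.b3_01 C.rgd hirr rfl (i := 0) (j := i) rfl hi1' h0 hi
          rw [hD, Module.finrank_fintype_fun_eq_card, Fintype.card_fin] at h5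
          omega
  have hends : ∀ i : Fin r, i ∉ JB (modelSU hK hN3 W) p (MonoidHom.id (modelSU hK hN3 W).I)
      (φ₀.comp (modelSU hK hN3 W).φ) → (i : ℕ) = 0 ∨ (i : ℕ) + 1 = r := by
    intro i hi
    by_contra hcon
    have := i.2
    exact hmid ⟨i, hi, by omega, by omega⟩
  by_cases h0 : (⟨0, by omega⟩ : Fin r) ∈ JB (modelSU hK hN3 W) p (MonoidHom.id (modelSU hK hN3 W).I)
      (φ₀.comp (modelSU hK hN3 W).φ)
  · -- the last node
    exfalso
    have hJ : ∀ i, i ∉ JB (modelSU hK hN3 W) p (MonoidHom.id (modelSU hK hN3 W).I)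
        (φ₀.comp (modelSU hK hN3 W).φ) → i = ⟨r - 1, by omega⟩ := by
      intro i hi
      rcases hends i hi with h1 | h1
      · exact absurd h0 (by
          have : i = ⟨0, by omega⟩ := Fin.ext h1
          rwa [this] at hi)
      · exact Fin.ext (by simp only; omega)
    obtain ⟨i, hi⟩ := exists_node hC C hT
    have hi' := hJ i hi
    rw [hi'] at hi
    obtain ⟨p', f, hp', hch, hqf, hf⟩ := LieClassical.HermBasic.exists_prime_pow hK
    obtain rfl : p' = p := CharP.eq K hch ‹_›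
    have := Fintype.ofFinite F
    obtain ⟨a, -, ha⟩ := FiniteField.card F p'
    rw [← Nat.card_eq_fintype_card] at ha
    have hs : f / Nat.gcd a f * Nat.gcd a f = f := Nat.div_mul_cancel (Nat.gcd_dvd_right _ _)
    set s := f / Nat.gcd a f with hsdef
    have haj : (a : ℕ) * j = 2 * f := by
      have h1 : p' ^ ((a : ℕ) * j) = p' ^ (2 * f) := by
        rw [pow_mul, ← ha, hjq, hqf, ← pow_mul, mul_comm]
      exact Nat.pow_right_injective hp'.two_le h1
    have hjs : j ≤ 2 * s := by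
      have h1 : Nat.gcd a f ≤ a := Nat.gcd_le_left _ a.pos
      have h2 : (a : ℕ) * j ≤ a * (2 * s) := by
        rw [haj]
        calc 2 * f = 2 * (s * Nat.gcd a f) := by rw [hs]
          _ ≤ 2 * (s * a) := Nat.mul_le_mul_left _ (Nat.mul_le_mul_left _ h1)
          _ = a * (2 * s) := by ring
      exact Nat.le_of_mul_le_mul_left h2 a.pos
    have h5 := last_bound hC hp0 C hT hr3 (by simp only; omega) hi hJ ha hqf hs
    rw [Fintype.card_fin] at h5
    obtain ⟨h6, h7, h8⟩ := Ar.last hr3 hj hNo hnlt hjs h5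
    subst h6
    obtain ⟨d, hd, hV0⟩ := hW' (by omega)
    have h9 := hseven hN3 W d (by omega) hd hV0 φ₀ hφ₀ (by rw [h8] at hjq; exact hjq) (not_mem_witt hC hp0 C hT hi)
    rw [h7, h8] at hnlt
    omega
  · -- the first node
    obtain ⟨ε, hε, h3⟩ := bound_first hC C hT (by omega) rfl h0
    rw [Fintype.card_fin] at h3
    obtain ⟨hj1, hd2⟩ := Ar.first hr3 hj hnlt' (hedge _ (by simp only; omega) h0) hε h3
    subst hj1
    by_cases hl : (⟨r - 1, by omega⟩ : Fin r) ∈ JB (modelSU hK hN3 W) p (MonoidHom.id (modelSU hK hN3 W).I)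
      (φ₀.comp (modelSU hK hN3 W).φ)
    · obtain ⟨τ, θ, hθ⟩ := identify_B hC hA hp0 (by omega) (span_IU hK hN3) C hT (o := ⟨0, by omega⟩) rfl
        (fun i hi => by
          rcases hends i hi with h1 | h1
          · exact Fin.ext h1
          · exact absurd hl (by
              have : i = ⟨r - 1, by omega⟩ := Fin.ext (by simp only; omega)
              rwa [this] at hi)) hd2
      exact nate_of_ident hK τ θ hθ
    · exfalso
      rcases Nat.lt_or_ge 4 r with hr5 | hr5
      · obtain ⟨ε', -, h4⟩ := bound_last hC C hT (i := ⟨r - 1, by omega⟩) (by simp only; omega) hl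
        rw [Fintype.card_fin] at h4
        have h5 := Ar.pow_five hr5
        omega
      · rcases Nat.lt_or_ge 3 r with hr4 | hr4
        · obtain rfl : r = 4 := by omega
          have h5 := Low.b4_03 C.rgd hirr rfl (i := ⟨0, by omega⟩) (j := ⟨4 - 1, by omega⟩) rfl rfl h0 hl
          rw [hD, Module.finrank_fintype_fun_eq_card, Fintype.card_fin] at h5
          omega
        · obtain rfl : r = 3 := by omega
          have h5 := Low.b3_02 C.rgd hirr rfl (i := ⟨0, by omega⟩) (j := ⟨3 - 1, by omega⟩) rfl rfl h0 hl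
          rw [hD, Module.finrank_fintype_fun_eq_card, Fintype.card_fin] at h5
          omega

/-- **`PSU_N(q)`, `N ≥ 6`, in its own characteristic.** -/
theorem nate_psu (h : Row k m P) (hg : ∃ r, r.Prime ∧ r ∣ m ∧ r ∣ Nat.card (Soc P)) (hN : 6 ≤ N)
    (hK : Fintype.card K = q ^ 2) (e : Soc P ≃* PSU N K q) : NatE P := by
  refine nate_psu_aux p h hN hK e (fun j _ hj => H69.Ppd.le_psu h hK (by omega) hj hg e) ?_
  intro hN3 W d h7 hd hV0 φ₀ hφ₀ hj hJ
  subst h7
  have hne := h.core.nonempty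
  have h1 := H69.Ppd.seven_last hN3 W (Or.inr ⟨d, hd, hV0⟩) hφ₀ h.core.absIrred (i := 2) (by decide) hd hV0 hJ hj
  rwa [Fintype.card_fin] at h1

end Cfsg.Agent.H887.Ux
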