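import Cfsg.Agent.S0000
import Cfsg.Agent.H100.Ppd.Main
import Cfsg.Agent.H887.Ux.NatePsl
import Cfsg.Agent.H887.Ux.NatePsp
import Cfsg.Agent.H887.Ux.NatePsu
import Cfsg.Agent.H887.Ux.NatePplus
import Cfsg.Agent.H948.Ux.Podd
import Cfsg.Agent.H948.Ux.Pminus
import Cfsg.Agent.H917.Ux.UN

/-!
# UN2 and `UN` of UX (S5716, unbounded rank): S5948 with the normaliser (helper887)

* `struct2` : the two structural alternatives or a row `Row k m P` with `P ≤ H` normalised by `H`;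
* `nate` : `Row k m P → NatE P`;
* **`un2`**, **`un`**.
-/

set_option autoImplicit false

namespace Cfsg.Agent.H887.Ux

open Cfsg Cfsg.Geo Matrix
open Cfsg.Agent.H915.LD
open Cfsg.Agent.H100.Ppd
open Cfsg.Agent.H948.Ux (NatE)

universe u v w

section struct

variable {n k m : ℕ} {F : Type u} [Field F] [Finite F]

/-- **Part (A)** : the two structural alternatives, or a row (helper100's `struct`, keeping the normality of the core). -/
theorem struct2 {g : GL (Fin n) F} (hn : 10 ≤ n) (hk : n < 2 * k) (hg1 : 2 * k + 1 < orderOf g)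
    (hg2 : orderOf g ∣ Nat.card F ^ k - 1)
    (hg3 : ∀ i : ℕ, 1 ≤ i → i < k → Nat.Coprime (orderOf g) (Nat.card F ^ i - 1))
    (H : Subgroup (GL (Fin n) F)) (hgH : g ∈ H) (hirr : ActsIrreducibly (matrixSet H)) :
    (∃ (F₀ : Subfield F) (r : ℕ) (P : GL (Fin n) F), r.Prime ∧ Nat.card F = Nat.card F₀ ^ r ∧
      H ≤ subfieldSubgroup F₀ P) ∨
    (∃ (r : ℕ) (E : Subalgebra F (Matrix (Fin n) (Fin n) F)), r.Prime ∧ r ∣ Nat.gcd n k ∧
      IsFieldSubalgebra r E ∧ H ≤ subalgebraNormalizer E) ∨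
    (∃ P : Subgroup (GL (Fin n) F), P ≤ H ∧ (∀ h ∈ H, ∀ x ∈ P, h * x * h⁻¹ ∈ P) ∧ Row k (orderOf g) P) := by
  have h := num_of hn hk hg1 hg2 hg3
  have hne : Nonempty (Fin n) := ⟨⟨0, by omega⟩⟩
  rcases H917.lin_split (by rw [Fintype.card_fin]; omega) H with ⟨W, hW0, hW1, hHW⟩ | ⟨t, d, D, hD, hHD⟩ |
      ⟨r, K, hr, hK, hHK⟩ | ⟨n₁, n₂, e, P, h1, h2, hHP⟩ | ⟨-, hspan⟩
  · exfalso
    rcases hirr W (by
      rintro _ ⟨x, hx, rfl⟩
      rintro _ ⟨v, hv, rfl⟩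
      exact (hHW hx v).1 hv) with h1 | h1
    · exact hW0 h1
    · exact hW1 h1
  · exact (h.kill_decomp rfl hD (hHD hgH)).elim
  · exact Or.inr (Or.inl ⟨r, K, hr, h.dvd_of_field rfl hr hK (hHK hgH), hK, hHK⟩)
  · exact (h.kill_tensor rfl e P h1 h2 (hHP hgH)).elim
  rcases H919.C_split H hirr (by rw [Fintype.card_fin]; omega) hspan with
    ⟨N, hNH, hN, hNs, hNc⟩ | ⟨d, t, e, P, E, hW⟩ | ⟨P, hP⟩
  · obtain ⟨s, c, R, hRN, hR, hHR, habs, htype, hchar, hc, hcardR, hcen, hord⟩ :=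
      H920.exists_symplecticType hspan hNH hN hNs hNc
    exact (h.kill_sympType rfl habs htype hc hcardR hord (fun x hx y hy => hNc x (hRN hx) y (hRN hy))
      (hHR hgH)).elim
  · exact (h.kill_wreath rfl e P hW.two_le_m hW.two_le_t (hW.wreath hgH)).elim
  · by_cases hreal : ∃ F₀ : Subfield F, F₀ ≠ ⊤ ∧ RealisableOver F₀ (matrixSet P)
    · obtain ⟨F₀, hF₀, hreal⟩ := hreal
      obtain ⟨F₁, r, B, -, -, hr, hcard, -, hle⟩ :=
        H914.exists_le_subfieldSubgroup hP.normal hP.absIrred hF₀ hreal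
      exact Or.inl ⟨F₁, r, B, hr, hcard, hle⟩
    · push Not at hreal
      exact Or.inr (Or.inr ⟨P, hP.le, hP.normal, core_of_residual (hP.isResidualCore hreal), h, g, rfl,
        fun x hx => hP.normal g hgH x hx⟩)

end struct

section row

variable {n : ℕ} {F : Type u} [Field F] [Finite F] {k m : ℕ} {P : Subgroup (GL (Fin n) F)}

/-- Defining characteristic. -/
theorem nate_def (h : Row k m P) (p : ℕ) [hp : Fact p.Prime] [CharP F p] (hT : IsLieTypeChar p (Soc P)) :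
    NatE P := by
  have hg := h.good p hT
  rcases hT with hT | hT | hT | hT | hT | hT | hT | hT | hT | hT | hT
  · obtain ⟨K, _, _, _, N, h1, h2, ⟨e⟩⟩ := hT
    exact nate_psl p h hg h1 h2 e
  · obtain ⟨K, _, _, _, N, h1, h2, ⟨e⟩⟩ := hT
    exact nate_psp p h hg h1 h2 e
  · obtain ⟨K, _, _, _, N, q, h0, h1, h2, ⟨e⟩⟩ := hT
    by_cases h6 : 6 ≤ N
    · exact nate_psu p h hg h6 h0 e
    · have h3 : N = 3 ∨ N = 4 ∨ N = 5 := by omega
      rcases h3 with rfl | rfl | rfl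
      · exact (H525.Ppd.not_psu3 h hg (p := p) h0 (fun h => h2 ⟨rfl, h⟩) e).elim
      · exact (H269.Ppd.not_psu4 h hg (p := p) h0 e).elim
      · exact (H69.Ppd.not_psu5 h hg (p := p) h0 e).elim
  · obtain ⟨K, _, _, _, N, h1, h2, ⟨e⟩⟩ := hT
    exact H948.Ux.nate_podd p h hg h1 h2 e
  · obtain ⟨K, _, _, _, N, h1, ⟨e⟩⟩ := hT
    exact nate_pplus h hg p h1 e
  · obtain ⟨K, _, _, _, N, a, b, h1, h2, ⟨e⟩⟩ := hT
    exact H948.Ux.nate_pminus p h hg h1 a b h2 e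
  · obtain ⟨K, _, _, _, hT⟩ := hT
    rcases hT with ⟨h3, ⟨e⟩⟩ | ⟨⟨e⟩⟩ | ⟨⟨e⟩⟩ | ⟨⟨e⟩⟩ | ⟨⟨e⟩⟩
    · exact (H744.Ppd.G2.not_g2 h hg (p := p) h3 e).elim
    · exact (H2.Ppd.not_f4 h hg (p := p) e).elim
    · exact (H2.Ppd.not_e6 h hg (p := p) e).elim
    · exact (H2.Ppd.not_e7 h hg (p := p) e).elim
    · exact (H2.Ppd.not_e8 h hg (p := p) e).elim
  · obtain ⟨K, _, _, _, q, hq, ⟨hK, ⟨e⟩⟩ | ⟨hK, ⟨e⟩⟩⟩ := hT
    · exact (H2.Ppd.not_2e6 h hg (p := p) hq hK e).elim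
    · exact (H744.Ppd.D4.not_3d4 h hg (p := p) hq hK e).elim
  · obtain ⟨rfl, hT⟩ := hT
    exact (H909.Ppd.not_sz h hg rfl hT).elim
  · obtain ⟨rfl, hT⟩ := hT
    exact (H315.TwF.not_2f4 h hg rfl hT).elim
  · obtain ⟨rfl, hT⟩ := hT
    exact (H909.Ppd.not_ree h hg rfl hT).elim

/-- **The rows.** -/
theorem nate (h : Row k m P) : NatE P := by
  have hs : IsSimpleGroup (Soc P) := h.core.simple
  obtain ⟨p, hp, hpF, hT⟩ := h.lie' S0000.result (fun r hr hrF hT => h.not_cross_exc hr hrF hT)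
    (fun hT => h.not_sporadic hT)
  have : Fact p.Prime := ⟨hp⟩
  have : CharP F p := (CharP.charP_iff_prime_eq_zero hp).2 hpF
  exact nate_def h p hT

end row

/-- **UN2.** -/
theorem un2 : H917.Ux.UN2 := by
  intro F _ _ n k hn hk g hg1 hg2 hg3 H hgH hirr
  rcases struct2 hn hk hg1 hg2 hg3 H hgH hirr with h | h | ⟨P, hPH, hPn, hrow⟩
  · exact Or.inl h
  · exact Or.inr (Or.inl h)
  · exact Or.inr (Or.inr ⟨P, hPH, hPn, hrow.core.absIrred, nate hrow⟩)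

/-- **UN.** -/
theorem un : H141.Ux.UN := H917.Ux.un3 un2

end Cfsg.Agent.H887.Ux
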